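import Cfsg.Agent.Lib.DicksonFull.Exist
import Cfsg.Agent.Lib.RecogThree.PSL2Orders

/-!
Inverting involutions and dihedral subgroups of `PSL(2, F)`.
-/

set_option autoImplicit false

namespace Cfsg.Agent.Lib.HallPSL

open Matrix Cfsg.Agent.Lib.Linear Cfsg.Agent.Lib.DicksonFull

variable {F : Type*} [Field F]

local notation "SL2" => Matrix.SpecialLinearGroup (Fin 2) F
local notation "M2" => Matrix (Fin 2) (Fin 2) F
local notation "PSL2" => Matrix.ProjectiveSpecialLinearGroup (Fin 2) F

/-- A regular semisimple element is inverted by an element of trace zero. -/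
theorem exists_inverter [Fintype F] (h2 : (2 : F) ≠ 0) (x : SL2) (hx : Matrix.trace (x : M2) ^ 2 ≠ 4) :
    ∃ w : SL2, Matrix.trace (w : M2) = 0 ∧ w * x = x⁻¹ * w := by
  obtain ⟨A, B, C, hABC, hbc⟩ : ∃ a b c : F,
      a * ((x : M2) 0 0 - (x : M2) 1 1) + b * (x : M2) 1 0 + c * (x : M2) 0 1 = 0 ∧ a * -a - b * c = 1 := by
    have hdet := Matrix.det_fin_two (x : M2)
    rw [x.det_coe] at hdet
    rw [Matrix.trace_fin_two] at hx
    set α := (x : M2) 0 0
    set β := (x : M2) 0 1
    set γ := (x : M2) 1 0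
    set δ := (x : M2) 1 1
    by_cases hβ : β = 0
    · have hd : α - δ ≠ 0 := fun h => hx (by
        rw [hβ, zero_mul, sub_zero] at hdet
        rw [sub_eq_zero] at h
        rw [h] at hdet ⊢
        linear_combination -4 * hdet)
      refine ⟨γ, -(α - δ), (1 + γ ^ 2) / (α - δ), by rw [hβ]; ring, ?_⟩
      field_simp
      ring
    · set D := (α - δ) ^ 2 + 4 * β * γ with hD
      have hD0 : D ≠ 0 := fun h => hx (by linear_combination h - 4 * hdet)
      have h4 : (4 : F) ≠ 0 := by rw [show (4 : F) = 2 * 2 by norm_num]; exact mul_ne_zero h2 h2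
      have h2c : ringChar F ≠ 2 := fun h => h2 (by
        have := ringChar.Nat.cast_ringChar (R := F)
        rw [h] at this
        exact_mod_cast this)
      have hodd : Fintype.card F % 2 = 1 := FiniteField.odd_card_of_char_ne_two h2c
      have hk : D / (4 * β ^ 2) ≠ 0 := div_ne_zero hD0 (mul_ne_zero h4 (pow_ne_zero 2 hβ))
      have key : ∃ u v : F, u ^ 2 - D / (4 * β ^ 2) * v ^ 2 = -1 := by
        obtain ⟨u, v, huv⟩ := FiniteField.exists_root_sum_quadratic
          (f := (Polynomial.X ^ 2 : Polynomial F)) (g := Polynomial.C (-(D / (4 * β ^ 2))) * Polynomial.X ^ 2 + 1)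
          (Polynomial.degree_X_pow 2) (by
            rw [Polynomial.degree_add_eq_left_of_degree_lt]
            · exact Polynomial.degree_C_mul_X_pow 2 (neg_ne_zero.2 hk)
            · rw [Polynomial.degree_C_mul_X_pow 2 (neg_ne_zero.2 hk), Polynomial.degree_one]
              exact_mod_cast (show (0 : ℕ) < 2 by norm_num)) hodd
        refine ⟨u, v, ?_⟩
        simp only [Polynomial.eval_pow, Polynomial.eval_X, Polynomial.eval_add, Polynomial.eval_mul,
          Polynomial.eval_C, Polynomial.eval_one] at huv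
        linear_combination huv
      obtain ⟨u, v, huv⟩ := key
      refine ⟨u + (α - δ) / (2 * β) * v, v, -((u + (α - δ) / (2 * β) * v) * (α - δ) + v * γ) / β, ?_, ?_⟩
      · field_simp
        ring
      · rw [hD] at huv
        field_simp at huv ⊢
        linear_combination -huv
  refine ⟨mk2 A B C (-A) hbc, by rw [trace_mk2]; ring, ?_⟩
  have hdet := Matrix.det_fin_two (x : M2)
  rw [x.det_coe] at hdet
  apply Subtype.ext
  rw [Matrix.SpecialLinearGroup.coe_mul, Matrix.SpecialLinearGroup.coe_mul, Matrix.SpecialLinearGroup.coe_inv,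
    Matrix.adjugate_fin_two]
  ext i j
  fin_cases i <;> fin_cases j <;> simp [mk2, Matrix.mul_apply, Fin.sum_univ_two] <;>
    first | ring1 | linear_combination hABC | linear_combination -hABC

/-- An element whose trace squares to 4 has a scalar `p`-th power. -/
theorem trace_sq_ne_four (p : ℕ) [Fact p.Prime] [CharP F p] (h2 : (2 : F) ≠ 0) {x : SL2}
    (hx : (x : PSL2) ^ p ≠ 1) : Matrix.trace (x : M2) ^ 2 ≠ 4 := by
  intro h
  apply hx
  rw [← QuotientGroup.mk_pow]
  set s := Matrix.trace (x : M2) / 2 with hs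
  have hN : ((x : M2) - s • 1) ^ 2 = 0 := by
    rw [pow_two, Matrix.sub_mul, Matrix.mul_sub, Matrix.mul_sub, mul_smul_comm, smul_mul_assoc, one_mul, mul_one,
      sl2_mul_self, smul_mul_smul_comm, mul_one]
    have hs2 : Matrix.trace (x : M2) = 2 * s := by rw [hs]; field_simp
    have hs1 : s * s = 1 := by
      rw [hs]
      field_simp
      linear_combination h
    rw [hs2, hs1]
    module
  refine mk_eq_one_of_smul (a := s ^ p) ?_
  rw [Matrix.SpecialLinearGroup.coe_pow, show (x : M2) = s • 1 + ((x : M2) - s • 1) by abel,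
    add_pow_char_of_commute p ((Commute.one_left _).smul_left s)]
  have h0 : ((x : M2) - s • 1) ^ p = 0 := by
    obtain ⟨k, hk⟩ := Nat.exists_eq_add_of_le (Fact.out : p.Prime).two_le
    rw [hk, pow_add, hN, zero_mul]
  rw [h0, add_zero, smul_pow, one_pow]

/-- A dihedral subgroup of order `2 c` above an element of order `m`, for `c ∣ m` with `c ≥ 3`. -/
theorem exists_dihedral [Fintype F] (p : ℕ) [Fact p.Prime] [CharP F p] (h2 : (2 : F) ≠ 0) {y : PSL2} {m c : ℕ}
    (hy : orderOf y = m) (hpm : ¬ p ∣ m) (hc : c ∣ m) (hc3 : 3 ≤ c) :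
    ∃ H : Subgroup PSL2, Nat.card H = 2 * c := by
  have hm0 : 0 < m := hy ▸ orderOf_pos y
  obtain ⟨x, rfl⟩ := QuotientGroup.mk_surjective y
  have hyp : (x : PSL2) ^ p ≠ 1 := fun h => by
    have h1 := orderOf_dvd_of_pow_eq_one h
    rw [hy] at h1
    rcases (Fact.out : p.Prime).eq_one_or_self_of_dvd _ h1 with e | e
    · have := Nat.le_of_dvd hm0 hc
      omega
    · exact hpm e.symm.dvd
  obtain ⟨w, hw, hwx⟩ := exists_inverter h2 x (trace_sq_ne_four p h2 hyp)
  set z : PSL2 := (x : PSL2) ^ (m / c)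
  have hz : orderOf z = c := by
    obtain ⟨d, hd⟩ := hc
    have hc0 : 0 < c := by omega
    have hd0 : d ≠ 0 := by rintro rfl; rw [mul_zero] at hd; omega
    show orderOf ((x : PSL2) ^ (m / c)) = c
    rw [hd, Nat.mul_div_cancel_left d hc0, orderOf_pow_of_dvd hd0 (by rw [hy, hd]; exact Dvd.intro_left c rfl), hy,
      hd, Nat.mul_div_cancel _ (Nat.pos_of_ne_zero hd0)]
  set W : PSL2 := (w : PSL2)
  have hW2 : W * W = 1 := by rw [← pow_two]; exact mk_pow_two hw
  have hWinv : W⁻¹ = W := inv_eq_of_mul_eq_one_right hW2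
  have hWx : W * (x : PSL2) * W⁻¹ = (x : PSL2)⁻¹ := by
    rw [mul_inv_eq_iff_eq_mul, ← QuotientGroup.mk_inv, ← QuotientGroup.mk_mul, ← QuotientGroup.mk_mul, hwx]
  have hWz : W * z * W⁻¹ = z⁻¹ := by
    show W * (x : PSL2) ^ (m / c) * W⁻¹ = _
    rw [← conj_pow, hWx, _root_.inv_pow]
  have hWnot : W ∉ Subgroup.zpowers z := fun h => by
    obtain ⟨i, hi⟩ := Subgroup.mem_zpowers_iff.1 h
    have hcomm : W * z * W⁻¹ = z := by
      rw [← hi, show z ^ i * z = z * z ^ i from ((Commute.refl z).zpow_left i).eq, mul_inv_cancel_right]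
    rw [hcomm] at hWz
    have h2' : z * z = 1 := by
      nth_rewrite 2 [hWz]
      exact mul_inv_cancel z
    have h2o : orderOf z ∣ 2 := orderOf_dvd_of_pow_eq_one (by rw [pow_two]; exact h2')
    rw [hz] at h2o
    have := Nat.le_of_dvd two_pos h2o
    omega
  have hnorm : ∀ i : ℤ, W * z ^ i = z ^ (-i) * W := fun i => by
    rw [← mul_inv_eq_iff_eq_mul, ← conj_zpow, hWz, _root_.inv_zpow, _root_.zpow_neg]
  let H : Subgroup PSL2 :=
    { carrier := {g | ∃ i : ℤ, g = z ^ i ∨ g = z ^ i * W}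
      one_mem' := ⟨0, Or.inl (by simp)⟩
      mul_mem' := by
        rintro a b ⟨i, hi⟩ ⟨j, hj⟩
        rcases hi with rfl | rfl <;> rcases hj with rfl | rfl
        · exact ⟨i + j, Or.inl (_root_.zpow_add z i j).symm⟩
        · exact ⟨i + j, Or.inr (by rw [_root_.zpow_add, mul_assoc])⟩
        · exact ⟨i + -j, Or.inr (by rw [mul_assoc, hnorm, _root_.zpow_add, mul_assoc])⟩
        · exact ⟨i + -j, Or.inl (by rw [mul_assoc, ← mul_assoc W, hnorm, mul_assoc, hW2, mul_one, _root_.zpow_add])⟩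
      inv_mem' := by
        rintro a ⟨i, rfl | rfl⟩
        · exact ⟨-i, Or.inl (_root_.zpow_neg z i).symm⟩
        · exact ⟨i, Or.inr (by rw [_root_.mul_inv_rev, hWinv, ← _root_.zpow_neg, hnorm, neg_neg])⟩ }
  refine ⟨H, ?_⟩
  let f : Subgroup.zpowers z × Fin 2 → H := fun g =>
    ⟨g.1.1 * W ^ g.2.val, by
      obtain ⟨i, hi⟩ := Subgroup.mem_zpowers_iff.1 g.1.2
      refine ⟨i, ?_⟩
      rcases (show g.2.val = 0 ∨ g.2.val = 1 by omega) with e | e <;> rw [e, ← hi]
      · left; simp
      · right; simp⟩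
  have hf : Function.Bijective f := by
    constructor
    · rintro ⟨⟨a, ha⟩, i⟩ ⟨⟨b, hb⟩, j⟩ hab
      have h : a * W ^ i.val = b * W ^ j.val := congrArg Subtype.val hab
      fin_cases i <;> fin_cases j <;> simp at h
      · simp [h]
      · exact absurd (show W ∈ Subgroup.zpowers z by
          rw [show W = b⁻¹ * a by rw [h, inv_mul_cancel_left]]
          exact mul_mem (inv_mem hb) ha) hWnot
      · exact absurd (show W ∈ Subgroup.zpowers z by
          rw [show W = a⁻¹ * b by rw [← h, inv_mul_cancel_left]]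
          exact mul_mem (inv_mem ha) hb) hWnot
      · simp [h]
    · rintro ⟨g, i, rfl | rfl⟩
      · exact ⟨(⟨z ^ i, zpow_mem (Subgroup.mem_zpowers z) i⟩, 0), Subtype.ext (by simp [f])⟩
      · exact ⟨(⟨z ^ i, zpow_mem (Subgroup.mem_zpowers z) i⟩, 1), Subtype.ext (by simp [f])⟩
  rw [← Nat.card_congr (Equiv.ofBijective f hf), Nat.card_prod, Nat.card_zpowers, hz, Nat.card_fin, mul_comm]

end Cfsg.Agent.Lib.HallPSL
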