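import Cfsg.Agent.Lib.HallPSL.Dihedral
import Cfsg.Agent.Lib.DicksonFull.Maximal
import Cfsg.Prelude.Def_OddOrderLocal

/-!
Hall `{2, 3}`-subgroups of `PSL(2, q)`.
-/

set_option autoImplicit false

namespace Cfsg.Agent.Lib.HallPSL

open Cfsg.Agent.Lib

variable {F : Type*} [Field F] [Fintype F] {p : ℕ} [Fact p.Prime] [CharP F p]

local notation "PSL2" => Matrix.ProjectiveSpecialLinearGroup (Fin 2) F

theorem nt_factorization {q a b : ℕ} (hb : b ≠ 0) (hq : q ^ 2 - 1 ≠ 0) (hab : a = (q ^ 2 - 1).factorization 2)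
    (hab' : b = (q ^ 2 - 1).factorization 3) (h : 2 ^ a * 3 ^ b = 48) : 16 ∣ q ^ 2 - 1 := by
  have ha : a = 4 := by
    have h1 := congrArg (fun n => n.factorization 2) h
    rw [Nat.factorization_mul (by simp) (by simp)] at h1
    simp [Nat.Prime.factorization_pow Nat.prime_two, Nat.Prime.factorization_pow Nat.prime_three] at h1
    rw [h1, show (48 : ℕ) = 2 ^ 4 * 3 by norm_num, Nat.factorization_mul (by simp) (by simp),
      Nat.Prime.factorization_pow Nat.prime_two, Nat.Prime.factorization Nat.prime_three]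
    simp
  have h2 := Nat.ordProj_dvd (q ^ 2 - 1) 2
  rw [← hab, ha] at h2
  exact h2

theorem hall_two_three_iff (hp : 5 ≤ p) :
    (∃ H : Subgroup PSL2, Cfsg.IsPiHall ({2, 3} : Set ℕ) H) ↔
      (3 ∣ Fintype.card F - 1 ∧ Fintype.card F % 4 = 1) ∨ (3 ∣ Fintype.card F + 1 ∧ Fintype.card F % 4 = 3) ∨
        2 ^ (Fintype.card F ^ 2 - 1).factorization 2 * 3 ^ (Fintype.card F ^ 2 - 1).factorization 3 = 24 ∨
        2 ^ (Fintype.card F ^ 2 - 1).factorization 2 * 3 ^ (Fintype.card F ^ 2 - 1).factorization 3 = 48 := by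
  classical
  have hpp : p.Prime := Fact.out
  obtain ⟨f, -, hf⟩ := FiniteField.card F p
  set q := Fintype.card F with hqdef
  have hq5 : 5 ≤ q := by
    rw [hf]
    calc 5 ≤ p := hp
      _ = p ^ 1 := (pow_one p).symm
      _ ≤ p ^ (f : ℕ) := Nat.pow_le_pow_right hpp.pos f.pos
  have hodd : q % 2 = 1 := by
    rw [hf, Nat.pow_mod, Nat.odd_iff.1 (hpp.odd_of_ne_two (by omega)), one_pow, Nat.one_mod]
  have hq3 : q % 3 ≠ 0 := fun h => by
    have h1 : 3 ∣ p := Nat.prime_three.dvd_of_dvd_pow (hf ▸ Nat.dvd_of_mod_eq_zero h)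
    have := (Nat.prime_dvd_prime_iff_eq Nat.prime_three hpp).1 h1
    omega
  set a := (q ^ 2 - 1).factorization 2 with ha
  set b := (q ^ 2 - 1).factorization 3 with hb
  have hsq : q ^ 2 - 1 = (q - 1) * (q + 1) := by
    rw [show q ^ 2 - 1 = q ^ 2 - 1 ^ 2 by norm_num, Nat.sq_sub_sq, mul_comm]
  have hsq0 : q ^ 2 - 1 ≠ 0 := by
    rw [hsq]
    exact Nat.mul_ne_zero (by omega) (by omega)
  have ha3 : 3 ≤ a := by
    rw [ha, ← Nat.Prime.pow_dvd_iff_le_factorization Nat.prime_two hsq0, hsq]
    obtain ⟨k, hk⟩ : ∃ k, q = 2 * k + 1 := ⟨q / 2, by omega⟩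
    obtain ⟨l, hl⟩ := even_iff_two_dvd.1 (Nat.even_mul_succ_self k)
    exact ⟨l, by rw [hk, Nat.add_sub_cancel]; linear_combination 4 * hl⟩
  have hb1 : 1 ≤ b := by
    rw [hb, ← Nat.Prime.pow_dvd_iff_le_factorization Nat.prime_three hsq0, hsq, pow_one]
    rcases (show q % 3 = 1 ∨ q % 3 = 2 by omega) with h | h
    · exact (Nat.dvd_of_mod_eq_zero (show (q - 1) % 3 = 0 by omega)).mul_right _
    · exact (Nat.dvd_of_mod_eq_zero (show (q + 1) % 3 = 0 by omega)).mul_left _
  have hG : 2 * Nat.card PSL2 = q * (q ^ 2 - 1) := by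
    rw [Linear.two_mul_card_PSL_two_of_odd (Nat.odd_iff.2 hodd), hsq]
    ring
  have h2F : (2 : F) ≠ 0 := fun h => by
    exact absurd (Nat.le_of_dvd two_pos ((CharP.cast_eq_zero_iff F p 2).1 (by exact_mod_cast h))) (by omega)
  have hqfac : q.factorization 2 = 0 ∧ q.factorization 3 = 0 :=
    ⟨Nat.factorization_eq_zero_of_not_dvd (by omega), Nat.factorization_eq_zero_of_not_dvd (by omega)⟩
  have hGfac : (Nat.card PSL2).factorization 2 + 1 = a ∧ (Nat.card PSL2).factorization 3 = b := by
    have h := congrArg Nat.factorization hG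
    rw [Nat.factorization_mul (by norm_num) Nat.card_pos.ne', Nat.factorization_mul (by omega) hsq0,
      Nat.Prime.factorization Nat.prime_two] at h
    have e2 := DFunLike.congr_fun h 2
    have e3 := DFunLike.congr_fun h 3
    simp only [Finsupp.add_apply, Finsupp.single_eq_same, hqfac.1, hqfac.2, zero_add] at e2 e3
    rw [Finsupp.single_eq_of_ne (by norm_num)] at e3
    omega
  set N := 2 ^ (a - 1) * 3 ^ b with hN
  have hN0 : N ≠ 0 := by simp [hN]
  have hNdvd : ∀ r : ℕ, r.Prime → r ∣ N → r = 2 ∨ r = 3 := by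
    intro r hr h
    rcases hr.dvd_mul.1 h with h | h
    · exact Or.inl ((Nat.prime_dvd_prime_iff_eq hr Nat.prime_two).1 (hr.dvd_of_dvd_pow h))
    · exact Or.inr ((Nat.prime_dvd_prime_iff_eq hr Nat.prime_three).1 (hr.dvd_of_dvd_pow h))
  have hNfac : N.factorization 2 = a - 1 ∧ N.factorization 3 = b := by
    rw [hN, Nat.factorization_mul (by simp) (by simp), Nat.Prime.factorization_pow Nat.prime_two,
      Nat.Prime.factorization_pow Nat.prime_three]
    simp
  -- Hall subgroups are the subgroups of order `N`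
  have hHall : ∀ H : Subgroup PSL2, Cfsg.IsPiHall ({2, 3} : Set ℕ) H ↔ Nat.card H = N := by
    intro H
    have hmul := H.card_mul_index
    have hH0 : Nat.card H ≠ 0 := Nat.card_pos.ne'
    have hi0 : H.index ≠ 0 := Subgroup.index_ne_zero_of_finite
    have hfac := Nat.factorization_mul hH0 hi0
    rw [hmul] at hfac
    have e2 := DFunLike.congr_fun hfac 2
    have e3 := DFunLike.congr_fun hfac 3
    simp only [Finsupp.add_apply] at e2 e3
    constructor
    · intro hH
      have i2 := Nat.factorization_eq_zero_of_not_dvd (hH.2 2 Nat.prime_two (by simp))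
      have i3 := Nat.factorization_eq_zero_of_not_dvd (hH.2 3 Nat.prime_three (by simp))
      refine Nat.eq_of_factorization_eq hH0 hN0 fun r => ?_
      by_cases hr : r = 2 ∨ r = 3
      · rcases hr with rfl | rfl <;> omega
      · rw [not_or] at hr
        by_cases hrp : r.Prime
        · rw [Nat.factorization_eq_zero_of_not_dvd fun h => by
              rcases hH.1 r hrp h with e | e
              exacts [hr.1 e, hr.2 e],
            Nat.factorization_eq_zero_of_not_dvd fun h => by
              rcases hNdvd r hrp h with e | e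
              exacts [hr.1 e, hr.2 e]]
        · simp [Nat.factorization_eq_zero_of_not_prime _ hrp]
    · intro hH
      rw [hH] at e2 e3
      refine ⟨fun r hr h => ?_, fun r hr hrπ h => ?_⟩
      · rcases hNdvd r hr (hH ▸ h) with rfl | rfl <;> simp
      · have := hr.factorization_pos_of_dvd hi0 h
        rcases hrπ with rfl | rfl <;> omega
  have hpN : ¬ p ∣ N := fun h => by
    rcases hNdvd p hpp h with e | e <;> omega
  have hc3 : 3 ≤ 2 ^ (a - 2) * 3 ^ b := by
    calc 3 = 1 * 3 ^ 1 := by norm_num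
      _ ≤ _ := Nat.mul_le_mul Nat.one_le_two_pow (Nat.pow_le_pow_right (by norm_num) hb1)
  have hNc : N = 2 * (2 ^ (a - 2) * 3 ^ b) := by
    rw [hN, ← mul_assoc, ← pow_succ', show a - 2 + 1 = a - 1 by omega]
  have hdd : RecogThree.PSL2Orders.dd q = 2 := if_neg (by omega)
  constructor
  · rintro ⟨H, hH⟩
    rw [hHall] at hH
    have h24 : ∀ M : ℕ, Nat.card H = M → 2 ^ a * 3 ^ b = 2 * M := fun M hM => by
      rw [← hM, hH, hN, ← mul_assoc, ← pow_succ', show a - 1 + 1 = a by omega]
    rcases DicksonFull.coprime_cases (p := p) H (hH ▸ hpN) with ⟨C, hC, hCi⟩ | h | h | h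
    · obtain ⟨y, hy⟩ := hC.exists_generator
      have hord : orderOf ((y : H) : PSL2) = Nat.card C := by
        rw [Subgroup.orderOf_coe, Subgroup.orderOf_coe, ← orderOf_eq_card_of_forall_mem_zpowers hy]
      have hcm := C.card_mul_index
      rw [hH] at hcm
      have hcC : 2 ^ (a - 2) * 3 ^ b ∣ Nat.card C := by
        rcases (show C.index = 1 ∨ C.index = 2 by have := (Subgroup.index_ne_zero_of_finite : C.index ≠ 0); omega) with e | e <;>
          rw [e] at hcm
        · exact ⟨2, by rw [mul_comm _ 2, ← hNc, ← hcm, mul_one]⟩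
        · exact ⟨1, by omega⟩
      have h3 : 3 ∣ 2 ^ (a - 2) * 3 ^ b := dvd_mul_of_dvd_right (dvd_pow_self 3 (by omega)) _
      have h2 : 2 ∣ 2 ^ (a - 2) * 3 ^ b := dvd_mul_of_dvd_left (dvd_pow_self 2 (by omega)) _
      rcases RecogThree.PSL2Orders.orderOf_cases p ((y : H) : PSL2) with h | h | h
      · rw [hord] at h
        rcases hpp.eq_one_or_self_of_dvd _ h with e | e
        · have := Nat.le_of_dvd (by omega) hcC
          omega
        · exact absurd (e ▸ Dvd.intro _ hcm : p ∣ N) hpN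
      · rw [hord, hdd] at h
        have h3' := h3.trans (hcC.trans h)
        have h2' := h2.trans (hcC.trans h)
        left
        constructor <;> omega
      · rw [hord, hdd] at h
        have h3' := h3.trans (hcC.trans h)
        have h2' := h2.trans (hcC.trans h)
        right; left
        constructor <;> omega
    · exact Or.inr (Or.inr (Or.inl (h24 12 h)))
    · exact Or.inr (Or.inr (Or.inr (h24 24 h)))
    · exact absurd (show 5 ∣ N by rw [← hH, h]; norm_num) fun h5 => by
        rcases hNdvd 5 (by norm_num) h5 with e | e <;> norm_num at e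
  · intro h
    have hex : ∃ H : Subgroup PSL2, Nat.card H = N := by
      obtain ⟨⟨y, hy⟩, ⟨y', hy'⟩, -⟩ := RecogThree.PSL2Orders.exists_orders (F := F) p
      rw [← hqdef, hdd] at hy hy'
      have hpm : ∀ m, m ∣ q ^ 2 - 1 → ¬ p ∣ m := fun m hm hpm => by
        have h1 : p ∣ q := hf ▸ dvd_pow_self p f.ne_zero
        have h2 := Nat.dvd_sub (dvd_pow h1 (two_ne_zero : 2 ≠ 0)) (hpm.trans hm)
        rw [Nat.sub_sub_self (Nat.one_le_pow _ _ (by omega))] at h2
        exact hpp.not_dvd_one h2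
      have key : ∀ m m' : ℕ, 2 ∣ m → ¬ 2 ∣ m' → 3 ∣ m → (3 ∣ m' → ¬ 3 ∣ m) → m * m' * 4 = q ^ 2 - 1 →
          2 ^ (a - 2) * 3 ^ b ∣ m := by
        intro m m' hm2 hm2' hm3 hm' hmm
        have h3' : ¬ 3 ∣ m' := fun h => hm' h hm3
        refine Nat.Coprime.dvd_of_dvd_mul_right (n := m') ?_ ?_
        · refine Nat.Coprime.mul_left ?_ ?_
          · exact (Nat.prime_two.coprime_iff_not_dvd.2 hm2').pow_left _
          · exact (Nat.prime_three.coprime_iff_not_dvd.2 h3').pow_left _
        · refine Nat.dvd_of_mul_dvd_mul_right (show 0 < 4 by norm_num) ?_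
          rw [hmm, mul_right_comm, show (4 : ℕ) = 2 ^ 2 by norm_num, ← pow_add, show a - 2 + 2 = a by omega]
          exact Nat.Coprime.mul_dvd_of_dvd_of_dvd (Nat.Coprime.pow _ _ (by norm_num)) (Nat.ordProj_dvd _ 2)
            (Nat.ordProj_dvd _ 3)
      rcases h with ⟨h3, h4⟩ | ⟨h3, h4⟩ | h | h
      · obtain ⟨H, hH⟩ := exists_dihedral p h2F hy (hpm _ ((Nat.div_dvd_of_dvd (by omega)).trans (hsq ▸ Dvd.intro _ rfl)))
          (key ((q - 1) / 2) ((q + 1) / 2) (by omega) (by omega) (by omega) (by omega)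
            (by rw [hsq, show (q - 1) / 2 * ((q + 1) / 2) * 4 = ((q - 1) / 2 * 2) * ((q + 1) / 2 * 2) by ring,
              Nat.div_mul_cancel (by omega), Nat.div_mul_cancel (by omega)])) hc3
        exact ⟨H, hH.trans hNc.symm⟩
      · obtain ⟨H, hH⟩ := exists_dihedral p h2F hy' (hpm _ ((Nat.div_dvd_of_dvd (by omega)).trans (hsq ▸ Dvd.intro_left _ rfl)))
          (key ((q + 1) / 2) ((q - 1) / 2) (by omega) (by omega) (by omega) (by omega)
            (by rw [hsq, show (q + 1) / 2 * ((q - 1) / 2) * 4 = ((q - 1) / 2 * 2) * ((q + 1) / 2 * 2) by ring,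
              Nat.div_mul_cancel (by omega), Nat.div_mul_cancel (by omega)])) hc3
        exact ⟨H, hH.trans hNc.symm⟩
      · obtain ⟨φ, hφ⟩ := DicksonFull.exists_alt_four (F := F) h2F
        refine ⟨φ.range, ?_⟩
        rw [← Nat.card_congr (MonoidHom.ofInjective hφ).toEquiv, nat_card_alternatingGroup, Nat.card_fin]
        rw [show a = a - 1 + 1 by omega, pow_succ', mul_assoc, ← hN] at h
        norm_num [Nat.factorial]
        omega
      · have h16 := nt_factorization (by omega) hsq0 ha hb h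
        have hsqr : IsSquare (2 : F) := by
          rw [FiniteField.isSquare_two_iff, ← hqdef]
          have h8 : q % 8 = 1 ∨ q % 8 = 7 ∨ q % 8 = 3 ∨ q % 8 = 5 := by omega
          obtain ⟨k, hk⟩ : ∃ k, q = 8 * k + q % 8 := ⟨q / 8, by omega⟩
          obtain ⟨l, hl⟩ := h16
          have hl' : q ^ 2 = 16 * l + 1 := by omega
          rw [hk] at hl'
          ring_nf at hl'
          rcases h8 with e | e | e | e <;> rw [e] at hl' ⊢ <;> first | omega | (ring_nf at hl' ⊢; omega)
        obtain ⟨r, hr⟩ := hsqr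
        obtain ⟨φ, hφ⟩ := DicksonFull.exists_perm_four (F := F) h2F (r := r) (by rw [sq]; exact hr.symm)
        refine ⟨φ.range, ?_⟩
        rw [← Nat.card_congr (MonoidHom.ofInjective hφ).toEquiv, Nat.card_perm, Nat.card_fin]
        rw [show a = a - 1 + 1 by omega, pow_succ', mul_assoc, ← hN] at h
        norm_num [Nat.factorial]
        omega
    obtain ⟨H, hH⟩ := hex
    exact ⟨H, (hHall H).2 hH⟩

end Cfsg.Agent.Lib.HallPSL
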